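import Cfsg.Agent.Lib.CosetEnum.Defs

/-! Generated table data. -/

set_option autoImplicit false
set_option maxRecDepth 20000

namespace Cfsg.Lib.CosetEnum.U62Pres.SubAThree

/-- Table data. -/
def tabC_0_0 : Tab :=
  (.node 16 (.node 8 (.node 4 (.node 2 (.node 1 (.leaf 0x40000000000000007) (.leaf 0x40000000000000008)) (.node 1 (.leaf 0x100000c000030000200000200000000004) (.leaf 0x40000400000c00005000010000030000240000400000000005))) (.node 2 (.node 1 (.leaf 0x40000600001000007000018000040000280000400001000003) (.leaf 0x40000b0000140000200001400002)) (.node 1 (.leaf 0x40000c00001c0000200001c00001) (.leaf 0x10000180000d0000180000100001400004)))) (.node 4 (.node 2 (.node 1 (.leaf 0x40000000000c0000200001000002) (.leaf 0x1000004000100000100000300001400001)) (.node 1 (.leaf 0x1000008000110000180000300001c00000) (.leaf 0x10000200000100000000000))) (.node 2 (.node 1 (.leaf 0x10000240000100000000001) (.leaf 0x40001000000c0000200000000002)) (.node 1 (.leaf 0x10000400000a0000400000300000400000) (.leaf 0x1000044000040000400000300000400001))))) (.node 2 (.node 1 (.leaf 0x1000048000060000440000300000800000) (.leaf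 0x10000440000d0000440000300000800002)) (.node 1 (.leaf 0x10000480000e0000480000300000c00001) (.leaf 0x10000480000f0000480000300000c00002))))

/-- Table data. -/
def tabC_0 : Tab :=
  tabC_0_0

end Cfsg.Lib.CosetEnum.U62Pres.SubAThree
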