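import Cfsg.Agent.Lib.CosetEnum.Defs

/-! Generated table data. -/

set_option autoImplicit false
set_option maxRecDepth 20000

namespace Cfsg.Lib.CosetEnum.U62Pres.SubAThree

/-- Table data. -/
def tabF_0_0 : Tab :=
  (.leaf 0x180000620000000000180000610000000000100000420000000000180000400000000000100000210000000000080000200000000000080000020000000000000000010000000000000000000000000000180000ff0000000000100000bf00000000000800009f0000000000380000e20000000000380000e10000000000280000a20000000000400000ff0000000000300000bf0000000000200000800000000000000000010000000000000000000000000000380001010000000000280000e00000000000280000c20000000000200000a1000000000000000082000000000010000060000000000008000041000000000000000022)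

/-- Table data. -/
def tabF_0 : Tab :=
  tabF_0_0

end Cfsg.Lib.CosetEnum.U62Pres.SubAThree
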